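import Cfsg.Prelude.Def_FusionSystem

/-! Graph (relation) form of the maps of a fusion system. -/

set_option autoImplicit false

namespace Cfsg.Agent.H9

open Cfsg

variable {Ω : Type*} [Group Ω] {S : Subgroup Ω}

/-- `Γ` is contained in the graph of a map of `F`. -/
def Rel (F : FusionSystem S) (Γ : Set (Ω × Ω)) : Prop :=
  ∃ (P : Subgroup Ω) (φ : P →* Ω), φ ∈ F.Hom P ∧ ∀ z ∈ Γ, ∃ h : z.1 ∈ P, φ ⟨z.1, h⟩ = z.2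

variable {F : FusionSystem S}

theorem restrict_mem {P R : Subgroup Ω} {φ : P →* Ω} (hφ : φ ∈ F.Hom P) (h : R ≤ P) :
    φ.comp (Subgroup.inclusion h) ∈ F.Hom R := by
  have h1 := F.conj_mem (P := R) (h.trans (F.le_of_mem hφ).1) S.one_mem
  have h2 : ∀ x : R, conjHom R 1 x ∈ P := fun x => by simpa [conjHom] using h x.2
  convert F.comp_mem h1 hφ h2 using 1
  ext x
  simp only [MonoidHom.comp_apply]
  congr 1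
  ext
  simp [conjHom]

theorem Rel.mono {Γ Γ' : Set (Ω × Ω)} (h : Rel F Γ) (h' : Γ' ⊆ Γ) : Rel F Γ' := by
  obtain ⟨P, φ, hφ, h⟩ := h
  exact ⟨P, φ, hφ, fun z hz => h z (h' hz)⟩

theorem rel_of_mem {P : Subgroup Ω} {φ : P →* Ω} (hφ : φ ∈ F.Hom P) :
    Rel F {z | ∃ x : P, z = ((x : Ω), φ x)} :=
  ⟨P, φ, hφ, by rintro _ ⟨x, rfl⟩; exact ⟨x.2, rfl⟩⟩

theorem mem_of_rel {P : Subgroup Ω} {φ : P →* Ω} (h : Rel F {z | ∃ x : P, z = ((x : Ω), φ x)}) :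
    φ ∈ F.Hom P := by
  obtain ⟨Q, ψ, hψ, h⟩ := h
  have hPQ : P ≤ Q := fun x hx => (h _ ⟨⟨x, hx⟩, rfl⟩).1
  convert restrict_mem hψ hPQ using 1
  ext x
  exact (h _ ⟨x, rfl⟩).2.symm

theorem Rel.swap {Γ : Set (Ω × Ω)} (h : Rel F Γ) : Rel F {z | (z.2, z.1) ∈ Γ} := by
  obtain ⟨P, φ, hφ, h⟩ := h
  obtain ⟨ψ, hψ, hψ'⟩ := F.inv_mem hφ
  refine ⟨_, ψ, hψ, fun z hz => ?_⟩
  obtain ⟨h1, h2⟩ := h _ hz
  refine ⟨⟨_, h2⟩, ?_⟩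
  exact (congrArg ψ (Subtype.ext h2.symm)).trans (hψ' ⟨z.2, h1⟩)

theorem Rel.comp {Γ Γ' : Set (Ω × Ω)} (h : Rel F Γ) (h' : Rel F Γ') :
    Rel F {z | ∃ b, (z.1, b) ∈ Γ ∧ (b, z.2) ∈ Γ'} := by
  obtain ⟨P, φ, hφ, h⟩ := h
  obtain ⟨Q, ψ, hψ, h'⟩ := h'
  have hle : (Q.comap φ).map P.subtype ≤ P := Subgroup.map_subtype_le _
  have h1 := restrict_mem hφ hle
  have h2 : ∀ x, φ.comp (Subgroup.inclusion hle) x ∈ Q := by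
    rintro ⟨_, y, hy, rfl⟩
    exact hy
  refine ⟨_, _, F.comp_mem h1 hψ h2, ?_⟩
  rintro z ⟨b, hb, hb'⟩
  obtain ⟨h3, h4⟩ := h _ hb
  obtain ⟨h5, h6⟩ := h' _ hb'
  simp only at h3 h4 h5 h6
  refine ⟨⟨⟨z.1, h3⟩, by simpa [h4] using h5, rfl⟩, ?_⟩
  rw [← h6]
  simp only [MonoidHom.comp_apply]
  congr 1
  exact Subtype.ext h4

theorem rel_conj {g : Ω} (hg : g ∈ S) : Rel F {z | z.1 ∈ S ∧ z.2 = g * z.1 * g⁻¹} :=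
  ⟨S, conjHom S g, F.conj_mem le_rfl hg, fun _ hz => ⟨hz.1, hz.2.symm⟩⟩

theorem Rel.eq_one_of_snd {Γ : Set (Ω × Ω)} (h : Rel F Γ) {u : Ω} (hu : (u, 1) ∈ Γ) : u = 1 := by
  obtain ⟨P, φ, hφ, h⟩ := h
  obtain ⟨h1, h2⟩ := h _ hu
  have : (⟨u, h1⟩ : P) = 1 := F.injective_of_mem hφ (by simpa using h2)
  simpa using this

end Cfsg.Agent.H9
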